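import Mathlib
import Groth.Agent.EGA2SymLib.FTVA
import Groth.Agent.SymGenLib.Basic
import Groth.Agent.QCohLib.AffineFinite

/-!
# Finite type submodules and subalgebras
-/

set_option autoImplicit false
universe u

open CategoryTheory CategoryTheory.Limits AlgebraicGeometry TopologicalSpace Opposite

noncomputable section

namespace QCSubLib

open QCohLib (LocSub map_map' map_smul')

variable {X : Scheme.{u}}

/-- the underlying module of a quasi-coherent algebra is quasi-coherent -/
theorem isQCoh_toModule (B : RelSpec.QCAlg X) : Coh.IsQCoh B.toModule := by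
  refine (QCohLib.isQCoh_iff_localizingAt _).mpr fun U hU f => ⟨fun s => ?_, fun t ht => ?_⟩
  all_goals let _inst := (B.presheaf.map (homOfLE (X.basicOpen_le f)).op).hom.toAlgebra
  all_goals (have hloc : IsLocalization.Away ((B.str.app (op U)).hom f) (B.presheaf.obj (op (X.basicOpen f))) := B.isQC U hU f)
  · obtain ⟨⟨b, _, k, rfl⟩, hb⟩ := IsLocalization.surj (Submonoid.powers ((B.str.app (op U)).hom f))
      (show B.presheaf.obj (op (X.basicOpen f)) from s)
    refine ⟨k, b, ?_⟩
    show (B.presheaf.map (homOfLE (X.basicOpen_le f)).op).hom b =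
      (B.str.app (op (X.basicOpen f))).hom ((X.presheaf.map (homOfLE (X.basicOpen_le f)).op).hom f ^ k) *
        (show B.presheaf.obj (op (X.basicOpen f)) from s)
    rw [map_pow, ← show _ = (B.str.app (op (X.basicOpen f))).hom ((X.presheaf.map (homOfLE (X.basicOpen_le f)).op).hom f)
      from (congr($(B.str.naturality (homOfLE (X.basicOpen_le f)).op) f)).symm]
    refine hb.symm.trans ((mul_comm _ _).trans ?_)
    exact congrArg (· * _) (map_pow _ _ _)
  · obtain ⟨⟨_, k, rfl⟩, hk⟩ := (IsLocalization.map_eq_zero_iff (Submonoid.powers ((B.str.app (op U)).hom f))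
      (B.presheaf.obj (op (X.basicOpen f))) (show B.presheaf.obj (op U) from t)).mp ht
    refine ⟨k, ?_⟩
    show (B.str.app (op U)).hom ((X.presheaf.map (homOfLE le_rfl).op).hom f ^ k) *
      (show B.presheaf.obj (op U) from t) = 0
    rw [show (homOfLE (le_refl U)).op = 𝟙 (op U) from rfl, CategoryTheory.Functor.map_id, CommRingCat.hom_id,
      RingHom.id_apply, map_pow]
    exact hk

/-- generation passes from an affine cover to every affine open -/
theorem gen_eq_top_of_cover (B : RelSpec.QCAlg X) {E : X.Modules} [Coh.IsQCoh E] (j : E ⟶ B.toModule)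
    (h : ∀ x : X, ∃ W : X.Opens, IsAffineOpen W ∧ x ∈ W ∧ SymGenLib.gen B j W = ⊤)
    {U : X.Opens} (hU : IsAffineOpen U) : SymGenLib.gen B j U = ⊤ := by
  refine eq_top_iff.mpr fun a _ => ?_
  refine SymGenLib.mem_local B j hU a {r | SymGenLib.gen B j (X.basicOpen r) = ⊤} ?_ fun r hr => by
    rw [show SymGenLib.gen B j (X.basicOpen r) = ⊤ from hr]; trivial
  rw [← hU.iSup_basicOpen_eq_self_iff]
  refine le_antisymm (iSup_le fun r => X.basicOpen_le _) fun x hx => ?_
  obtain ⟨W, hW, hxW, hgen⟩ := h x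
  obtain ⟨f, g, hfg, hxf⟩ := exists_basicOpen_le_affine_inter hU hW x ⟨hx, hxW⟩
  refine Opens.mem_iSup.mpr ⟨⟨f, ?_⟩, hxf⟩
  show SymGenLib.gen B j (X.basicOpen f) = ⊤
  rw [hfg]
  let _inst := (B.presheaf.map (homOfLE (X.basicOpen_le g)).op).hom.toAlgebra
  have hloc : IsLocalization.Away ((B.str.app (op W)).hom g) (B.presheaf.obj (op (X.basicOpen g))) := B.isQC W hW g
  refine eq_top_iff.mpr fun z _ => ?_
  obtain ⟨⟨b, _, k, rfl⟩, hb⟩ := IsLocalization.surj (Submonoid.powers ((B.str.app (op W)).hom g)) z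
  obtain ⟨v, hv⟩ := (show IsUnit ((X.presheaf.map (homOfLE (X.basicOpen_le g)).op).hom g ^ k) from
    (X.toRingedSpace.isUnit_res_basicOpen g).pow k)
  have hz : z = (B.str.app (op (X.basicOpen g))).hom ↑v⁻¹ * SymGenLib.res B (X.basicOpen_le g) b := by
    have h1 : z * (B.str.app (op (X.basicOpen g))).hom ↑v = SymGenLib.res B (X.basicOpen_le g) b := by
      refine Eq.trans ?_ hb
      rw [hv, map_pow]
      refine congrArg (z * ·) ?_
      exact (congrArg (· ^ k) (SymGenLib.res_str B (X.basicOpen_le g) g).symm).trans (map_pow _ _ _).symm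
    rw [← h1, mul_comm z, ← mul_assoc, ← map_mul, Units.inv_mul, map_one, one_mul]
  rw [hz]
  exact mul_mem (SymGenLib.str_mem B j _ _) (SymGenLib.res_mem B j _ (by rw [hgen]; trivial))

/-- a module of finite type generates a subalgebra of finite type -/
theorem finiteType_sub (B : RelSpec.QCAlg X) {E : X.Modules} [Coh.IsQCoh E] (hE : CohB1.IsFT E)
    (j : E ⟶ B.toModule) {U : X.Opens} (hU : IsAffineOpen U) :
    ((SymGenLib.sub B j).str.app (op U)).hom.FiniteType := by
  classical
  obtain ⟨G, hG⟩ := (QCohLib.finite_of_isFT (M := E) hE hU).fg_top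
  letI := ((SymGenLib.sub B j).str.app (op U)).hom.toAlgebra
  let cor : Γ(E, U) → (SymGenLib.sub B j).presheaf.obj (op U) := fun e =>
    ⟨j.app U e, (SymGenLib.mem_affine B j hU).mpr (SymGenLib.j_mem B j U e)⟩
  show Algebra.FiniteType Γ(X, U) ((SymGenLib.sub B j).presheaf.obj (op U))
  refine ⟨⟨G.image cor, eq_top_iff.mpr fun x _ => ?_⟩⟩
  let T := Algebra.adjoin Γ(X, U) ((G.image cor : Finset _) : Set ((SymGenLib.sub B j).presheaf.obj (op U)))
  have key : SymGenLib.gen B j U ≤ T.toSubring.map ((SymGenLib.incl B j).hom.app (op U)).hom := by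
    refine Subring.closure_le.mpr ?_
    rintro _ (⟨r, rfl⟩ | ⟨e, rfl⟩)
    · exact ⟨((SymGenLib.sub B j).str.app (op U)).hom r, T.algebraMap_mem r, rfl⟩
    · have he : e ∈ Submodule.span Γ(X, U) (G : Set Γ(E, U)) := hG ▸ trivial
      induction he using Submodule.span_induction with
      | mem e he => exact ⟨cor e, Algebra.subset_adjoin (by simp only [Finset.coe_image]; exact ⟨e, he, rfl⟩), rfl⟩
      | zero => exact ⟨0, T.zero_mem, (map_zero _).trans (map_zero (j.app U).hom).symm⟩
      | add a b _ _ ha hb =>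
        obtain ⟨x, hx, hx'⟩ := ha
        obtain ⟨y, hy, hy'⟩ := hb
        exact ⟨x + y, T.add_mem hx hy, (map_add _ x y).trans
          ((congrArg₂ (· + ·) hx' hy').trans (map_add (j.app U).hom a b).symm)⟩
      | smul r a _ ha =>
        obtain ⟨x, hx, hx'⟩ := ha
        exact ⟨((SymGenLib.sub B j).str.app (op U)).hom r * x, T.mul_mem (T.algebraMap_mem r) hx,
          (map_mul _ _ _).trans ((congrArg ((B.str.app (op U)).hom r * ·) hx').trans (QCohLib.app_smul j U r a).symm)⟩
  obtain ⟨y, hy, hyx⟩ := key ((SymGenLib.mem_affine B j hU).mp x.2)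
  exact (show y = x from Subtype.ext hyx) ▸ hy

/-- extension of a finite type submodule from a quasi-compact open -/
theorem exists_ftExtension_qcqs [CompactSpace X] [QuasiSeparatedSpace X] {F : X.Modules} [Coh.IsQCoh F]
    (U : X.Opens) (hU : IsCompact (U : Set X)) (S₀ : LocSub F) (hc : S₀.Canon U) (hft : S₀.FTBelow U) :
    ∃ S : LocSub F, S.FTBelow ⊤ ∧ ∀ O ≤ U, ∀ a : Γ(F, O), S.mem O a ↔ S₀.mem O a := by
  classical
  have key : ∀ t : Finset X.affineOpens, ∃ (V : X.Opens) (S : LocSub F), U ≤ V ∧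
      (∀ W ∈ t, W.1 ≤ V) ∧ IsCompact (V : Set X) ∧ S.Canon V ∧ S.FTBelow V ∧
      ∀ O ≤ U, ∀ a : Γ(F, O), S.mem O a ↔ S₀.mem O a := by
    intro t
    induction t using Finset.induction_on with
    | empty => exact ⟨U, S₀, le_rfl, fun W hW => absurd hW (Finset.notMem_empty W), hU, hc, hft, fun _ _ _ => Iff.rfl⟩
    | insert W t hWt ih =>
      obtain ⟨V, S, hUV, htV, hV, hc, hft, hs⟩ := ih
      obtain ⟨S', h1, h2, h3⟩ := LocSub.exists_extend_affine S hc hft W.2
        (QuasiSeparatedSpace.inter_isCompact _ _ W.1.isOpen W.2.isCompact V.isOpen hV)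
      exact ⟨V ⊔ W.1, S', hUV.trans le_sup_left, fun W' hW' => (Finset.mem_insert.mp hW').elim
        (fun e => e ▸ le_sup_right) fun h => (htV W' h).trans le_sup_left,
        hV.union W.2.isCompact, h1, h2, fun O hO a => (h3 O (hO.trans hUV) a).trans (hs O hO a)⟩
  obtain ⟨t, ht⟩ : ∃ t : Finset X.affineOpens, (Set.univ : Set X) ⊆ ⋃ V ∈ t, (V.1 : Set X) :=
    isCompact_univ.elim_finite_subcover (fun V : X.affineOpens => (V.1 : Set X))
      (fun V => V.1.isOpen) (fun p _ => by
        obtain ⟨V, hV, hp⟩ := QCohLib.exists_affine_nhd p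
        exact Set.mem_iUnion.mpr ⟨⟨V, hV⟩, hp⟩)
  obtain ⟨V, S, -, htV, -, -, hft, hs⟩ := key t
  obtain rfl : V = ⊤ := eq_top_iff.mpr fun p _ => by
    obtain ⟨W, hW, hpW⟩ := Set.mem_iUnion₂.mp (ht (Set.mem_univ p))
    exact htV W hW hpW
  exact ⟨S, hft, hs⟩

/-- a finite type generating submodule of an algebra of finite type -/
theorem exists_generating [CompactSpace X] [QuasiSeparatedSpace X] (B : RelSpec.QCAlg X)
    (hB : ∀ U : X.affineOpens, (B.str.app (op (U : X.Opens))).hom.FiniteType) :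
    ∃ (E : X.Modules) (j : E ⟶ B.toModule), Mono j ∧ Coh.IsQCoh E ∧ CohB1.IsFT E ∧
      ∀ U : X.affineOpens, SymGenLib.gen B j U.1 = ⊤ := by
  classical
  haveI := isQCoh_toModule B
  have hgen : ∀ U : X.affineOpens, ∃ T : Finset (B.presheaf.obj (op U.1)),
      letI := (B.str.app (op U.1)).hom.toAlgebra
      Algebra.adjoin Γ(X, U.1) (T : Set (B.presheaf.obj (op U.1))) = ⊤ := fun U => (hB U).out
  choose T hT using hgen
  obtain ⟨t, ht⟩ : ∃ t : Finset X.affineOpens, (Set.univ : Set X) ⊆ ⋃ V ∈ t, (V.1 : Set X) :=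
    isCompact_univ.elim_finite_subcover (fun V : X.affineOpens => (V.1 : Set X))
      (fun V => V.1.isOpen) (fun p _ => by
        obtain ⟨V, hV, hp⟩ := QCohLib.exists_affine_nhd p
        exact Set.mem_iUnion.mpr ⟨⟨V, hV⟩, hp⟩)
  obtain ⟨S, hS, hSt⟩ := EGA2SymLib.exists_ft_through_finset (F := B.toModule)
    (t.biUnion fun U => (T U).image fun b => (⟨U, b⟩ : Σ V : X.affineOpens, Γ(B.toModule, V.1)))
  haveI := LocSub.isQCoh_toModules S hS
  refine ⟨S.toModules, S.ι, inferInstance, inferInstance, LocSub.isFT_toModules S hS,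
    fun U => gen_eq_top_of_cover B S.ι (fun x => ?_) U.2⟩
  obtain ⟨W, hWt, hxW⟩ := Set.mem_iUnion₂.mp (ht (Set.mem_univ x))
  refine ⟨W.1, W.2, hxW, eq_top_iff.mpr fun a _ => ?_⟩
  letI := (B.str.app (op W.1)).hom.toAlgebra
  have ha : a ∈ Algebra.adjoin Γ(X, W.1) (T W : Set (B.presheaf.obj (op W.1))) := hT W ▸ trivial
  induction ha using Algebra.adjoin_induction with
  | mem b hb =>
    exact SymGenLib.j_mem B S.ι W.1 (S.lift b (hSt ⟨W, b⟩ (Finset.mem_biUnion.mpr ⟨W, hWt, Finset.mem_image_of_mem _ hb⟩)))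
  | algebraMap r => exact SymGenLib.str_mem B S.ι W.1 r
  | add a b _ _ ha hb => exact add_mem (ha trivial) (hb trivial)
  | mul a b _ _ ha hb => exact mul_mem (ha trivial) (hb trivial)

/-- a subalgebra of finite type through a section -/
theorem exists_sub_through (B : RelSpec.QCAlg X) (S : LocSub B.toModule) (hS : S.FTBelow ⊤) {U : X.Opens}
    (hU : IsAffineOpen U) {b : B.presheaf.obj (op U)} (hb : S.mem U b) :
    ∃ (B' : RelSpec.QCAlg X) (φ : B' ⟶ B), (∀ V : X.Opens, Function.Injective (φ.hom.app (op V)).hom) ∧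
      (∀ V : X.affineOpens, (B'.str.app (op (V : X.Opens))).hom.FiniteType) ∧
      b ∈ Set.range (φ.hom.app (op U)).hom := by
  haveI := isQCoh_toModule B
  haveI := LocSub.isQCoh_toModules S hS
  exact ⟨SymGenLib.sub B S.ι, SymGenLib.incl B S.ι, fun V a c h => Subtype.ext h,
    fun V => finiteType_sub B (LocSub.isFT_toModules S hS) S.ι V.2,
    ⟨b, (SymGenLib.mem_affine B S.ι hU).mpr (SymGenLib.j_mem B S.ι U (S.lift b hb))⟩, rfl⟩

end QCSubLib

end
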