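import Groth.Agent.QCohLib.Extend

/-!
# Extension of finite type submodules along a prescribed family of steps
-/

set_option autoImplicit false
universe u
open CategoryTheory CategoryTheory.Limits TopologicalSpace Opposite AlgebraicGeometry

namespace QCohLib
namespace LocSub
variable {X : Scheme.{u}} {F : X.Modules}

/-- **Extension.** -/
theorem exists_ftExtension_of_steps [Coh.IsQCoh F] (P : X.Opens → Prop)
    (hsup : ∀ (κ : Type u) (f : κ → X.Opens), Nonempty κ → (∀ k, P (f k)) → P (⨆ k, f k))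
    (hstep : ∀ V, P V → V ≠ ⊤ → ∃ W : X.Opens, IsAffineOpen W ∧
      IsCompact ((W ⊓ V : X.Opens) : Set X) ∧ ¬ W ≤ V ∧ P (V ⊔ W))
    (U : X.Opens) (hPU : P U) (S₀ : LocSub F) (hc : Canon S₀ U) (hft : FTBelow S₀ U) :
    ∃ S : LocSub F, FTBelow S ⊤ ∧ ∀ O ≤ U, ∀ a : Γ(F, O), S.mem O a ↔ S₀.mem O a := by
  let A₀ : {A : Stage U S₀ // P A.V} := ⟨⟨U, S₀, le_rfl, hc, hft, fun _ _ _ => Iff.rfl⟩, hPU⟩
  have : Nonempty ({A : Stage U S₀ // P A.V}) := ⟨A₀⟩
  have hch : ∀ c : Set ({A : Stage U S₀ // P A.V}), IsChain (fun A B => Stage.LE' A.1 B.1) c →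
      ∃ ub : {A : Stage U S₀ // P A.V}, ∀ A ∈ c, Stage.LE' A.1 ub.1 := by
    intro c hc'
    rcases c.eq_empty_or_nonempty with rfl | ⟨A₁, hA₁⟩
    · exact ⟨A₀, fun A hA => absurd hA (Set.notMem_empty A)⟩
    let V : X.Opens := ⨆ A : c, A.1.1.V
    let S : LocSub F :=
      { mem := fun O a => ∀ A : c,
          A.1.1.S.mem (O ⊓ A.1.1.V) (F.presheaf.map (homOfLE inf_le_left).op a)
        zero := fun O A => by rw [map_zero]; exact A.1.1.S.zero _
        add := fun {O a b} ha hb A => by rw [map_add]; exact A.1.1.S.add (ha A) (hb A)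
        smul := fun {O} r {a} ha A => by rw [map_smul']; exact A.1.1.S.smul _ (ha A)
        res := fun {O O'} h {a} ha A => by
          have := A.1.1.S.res (inf_le_inf_right A.1.1.V h) (ha A)
          rw [map_map'] at this ⊢
          exact this
        local' := fun {O} a h A => A.1.1.S.local' _ fun q hq => by
          obtain ⟨O', hO', hq', hm⟩ := h q hq.1
          refine ⟨O' ⊓ A.1.1.V, inf_le_inf_right _ hO', ⟨hq', hq.2⟩, ?_⟩
          have := hm A
          rw [map_map'] at this ⊢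
          exact this }
    have hagree : ∀ A : c, ∀ O ≤ A.1.1.V, ∀ a : Γ(F, O), S.mem O a ↔ A.1.1.S.mem O a := by
      intro A O hO a
      refine ⟨fun ha => A.1.1.canon O a (ha A), fun ha B => ?_⟩
      rcases eq_or_ne A.1 B.1 with e | e
      · exact e ▸ A.1.1.S.res _ ha
      · rcases hc' A.2 B.2 e with h | h
        · exact (h.2 _ (inf_le_left.trans hO) _).mpr (A.1.1.S.res _ ha)
        · exact (h.2 _ inf_le_right _).mp (A.1.1.S.res _ ha)
    refine ⟨⟨⟨V, S, A₁.1.le.trans (le_iSup_of_le ⟨A₁, hA₁⟩ le_rfl), fun O a ha A => ?_, fun p hp => ?_,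
      fun O hO a => (hagree ⟨A₁, hA₁⟩ O (hO.trans A₁.1.le) a).trans (A₁.1.agree O hO a)⟩,
      hsup c _ ⟨⟨A₁, hA₁⟩⟩ fun A => A.1.2⟩,
      fun A hA => ⟨le_iSup_of_le ⟨A, hA⟩ le_rfl, fun O hO a => hagree ⟨A, hA⟩ O hO a⟩⟩
    · have h1 := A.1.1.S.res (show O ⊓ A.1.1.V ≤ O ⊓ V ⊓ A.1.1.V from
        le_inf (inf_le_inf_left O (le_iSup_of_le A le_rfl)) inf_le_right) (ha A)
      rw [map_map', map_map'] at h1
      exact h1
    · obtain ⟨A, hpA⟩ := Opens.mem_iSup.mp hp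
      obtain ⟨U', hU', hpU', k, r, hr, hgen⟩ := A.1.1.ft p hpA
      exact ⟨U', hU'.trans (le_iSup_of_le A le_rfl), hpU', k, r,
        fun i => (hagree A U' hU' _).mpr (hr i),
        fun O hO a ha => hgen O hO a ((hagree A O (hO.trans hU') a).mp ha)⟩
  obtain ⟨A, hA⟩ := exists_maximal_of_chains_bounded hch
    (fun {A B C} h h' => ⟨h.1.trans h'.1, fun O hO a => (h'.2 O (hO.trans h.1) a).trans (h.2 O hO a)⟩)
  refine ⟨A.1.S, ?_, A.1.agree⟩
  suffices htop : A.1.V = ⊤ from htop ▸ A.1.ft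
  by_contra hne
  obtain ⟨W, hW, hWV, hnle, hP⟩ := hstep A.1.V A.2 hne
  obtain ⟨S', h1, h2, h3⟩ := exists_extend_affine A.1.S A.1.canon A.1.ft hW hWV
  let B : {A : Stage U S₀ // P A.V} := ⟨⟨A.1.V ⊔ W, S', A.1.le.trans le_sup_left, h1, h2,
    fun O hO a => (h3 O (hO.trans A.1.le) a).trans (A.1.agree O hO a)⟩, hP⟩
  exact hnle (le_sup_right.trans (hA B ⟨le_sup_left, h3⟩).1)

end LocSub
end QCohLib
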